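import Mathlib.LinearAlgebra.BilinearForm.Properties
import Mathlib.LinearAlgebra.Eigenspace.Basic
import Mathlib.RingTheory.Artinian.Module
import Mathlib.LinearAlgebra.FiniteDimensional.Basic

/-!
# Generalised kernels of adjoint pairs of endomorphisms
-/

namespace Groth.Agent.GenKer

variable {k : Type*} [Field k] {V : Type*} [AddCommGroup V] [Module k V] [FiniteDimensional k V]

theorem exists_forall_ker (g : Module.End k V) :
    ∃ N : ℕ, ∀ n, N ≤ n → (⨆ i, LinearMap.ker (g ^ i)) = LinearMap.ker (g ^ n) :=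
  Filter.eventually_atTop.1 g.eventually_iSup_ker_pow_eq

/-- If `T` is injective and commutes with `g` then it is surjective on the generalised kernel of `g`. -/
theorem surjOn_ker (T g : Module.End k V) (hT : Function.Injective T) (hc : Commute T g) (n : ℕ) :
    ∀ x ∈ LinearMap.ker (g ^ n), ∃ y ∈ LinearMap.ker (g ^ n), T y = x := by
  intro x hx
  have hst : ∀ y ∈ LinearMap.ker (g ^ n), T y ∈ LinearMap.ker (g ^ n) := fun y hy => by
    rw [LinearMap.mem_ker] at hy ⊢
    have := congrArg (fun φ : Module.End k V => φ y) (hc.pow_right n).eq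
    simp only [Module.End.mul_apply] at this
    rw [← this, hy, map_zero]
  obtain ⟨⟨y, hy⟩, he⟩ := (LinearMap.surjective_of_injective (f := T.restrict hst)
    (fun a b h => Subtype.ext (hT (congrArg Subtype.val h)))) ⟨x, hx⟩
  exact ⟨y, hy, congrArg Subtype.val he⟩

/-- The main orthogonality: if `B (T x) (f y) = c * B (g x) y` then the generalised kernel of `g`
is orthogonal to the stable range of `f`. -/
theorem eq_zero_of_mem_ker_of_mem_range (B : LinearMap.BilinForm k V) (T f g : Module.End k V) (c : k)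
    (hT : Function.Injective T) (hc : Commute T g)
    (h : ∀ x y, B (T x) (f y) = c * B (g x) y) {x r : V}
    (hx : x ∈ ⨆ i, LinearMap.ker (g ^ i)) (hr : r ∈ ⨅ i, LinearMap.range (f ^ i)) : B x r = 0 := by
  obtain ⟨N, hN⟩ := exists_forall_ker g
  rw [hN N le_rfl] at hx
  have hTN : Function.Injective ⇑(T ^ N) := by
    rw [Module.End.coe_pow]; exact hT.iterate N
  obtain ⟨x', hx', rfl⟩ := surjOn_ker (T ^ N) g hTN (hc.pow_left N) N x hx
  obtain ⟨y, rfl⟩ := LinearMap.mem_range.1 (Submodule.mem_iInf _ |>.1 hr N)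
  have key : ∀ n : ℕ, ∀ a b, B ((T ^ n) a) ((f ^ n) b) = c ^ n * B ((g ^ n) a) b := by
    intro n
    induction n with
    | zero => simp
    | succ n ih =>
      intro a b
      rw [pow_succ T, pow_succ f, Module.End.mul_apply, Module.End.mul_apply, ih,
        ← Module.End.mul_apply (g ^ n) T, ← (hc.pow_right n).eq, Module.End.mul_apply, h,
        ← Module.End.mul_apply g (g ^ n), ← pow_succ', pow_succ c, mul_assoc]
  rw [key, LinearMap.mem_ker.1 hx', map_zero, LinearMap.zero_apply, mul_zero]

/-- Fitting: an element killed by pairing with the generalised kernel and with the stable range is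
orthogonal to everything. -/
theorem eq_zero_of_ker_range (φ : V →ₗ[k] k) (f : Module.End k V)
    (h1 : ∀ y ∈ ⨆ i, LinearMap.ker (f ^ i), φ y = 0)
    (h2 : ∀ y ∈ ⨅ i, LinearMap.range (f ^ i), φ y = 0) (v : V) : φ v = 0 := by
  have hv : v ∈ (⨆ i, LinearMap.ker (f ^ i)) ⊔ ⨅ i, LinearMap.range (f ^ i) := by
    rw [f.isCompl_iSup_ker_pow_iInf_range_pow.sup_eq_top]; trivial
  obtain ⟨a, ha, b, hb, rfl⟩ := Submodule.mem_sup.1 hv
  rw [map_add, h1 a ha, h2 b hb, add_zero]

/-- A subspace stable under `f` on which `f` is injective lies in the stable range of `f`. -/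
theorem ker_le_range_of_commute (f g : Module.End k V) (hc : Commute f g)
    (hd : ∀ x, f x = 0 → (∃ n : ℕ, (g ^ n) x = 0) → x = 0) :
    (⨆ i, LinearMap.ker (g ^ i)) ≤ ⨅ i, LinearMap.range (f ^ i) := by
  obtain ⟨N, hN⟩ := exists_forall_ker g
  rw [hN N le_rfl]
  intro x hx
  rw [Submodule.mem_iInf]
  intro i
  induction i generalizing x with
  | zero => exact ⟨x, by simp⟩
  | succ i ih =>
    have hst : ∀ y ∈ LinearMap.ker (g ^ N), f y ∈ LinearMap.ker (g ^ N) := fun y hy => by
      rw [LinearMap.mem_ker] at hy ⊢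
      have := congrArg (fun φ : Module.End k V => φ y) (hc.pow_right N).eq
      simp only [Module.End.mul_apply] at this
      rw [← this, hy, map_zero]
    obtain ⟨⟨y, hy⟩, he⟩ := (LinearMap.surjective_of_injective (f := f.restrict hst)
      (fun a b h => Subtype.ext (sub_eq_zero.1 (hd _ (by
        have h' : f a = f b := congrArg Subtype.val h
        rw [map_sub, h', sub_self]) ⟨N, LinearMap.mem_ker.1 (sub_mem a.2 b.2)⟩)))) ⟨x, hx⟩
    obtain ⟨z, hz⟩ := LinearMap.mem_range.1 (ih hy)
    refine ⟨z, ?_⟩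
    rw [pow_succ', Module.End.mul_apply, hz]
    exact congrArg Subtype.val he

end Groth.Agent.GenKer
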