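import Mathlib.LinearAlgebra.QuadraticForm.Basic
import Mathlib.LinearAlgebra.Matrix.Charpoly.Minpoly
import Mathlib.LinearAlgebra.Matrix.ToLinearEquiv
import Mathlib.LinearAlgebra.Lagrange
import Mathlib.FieldTheory.Perfect
import Mathlib.RingTheory.Artinian.Module
import Mathlib.RingTheory.AdjoinRoot
import Mathlib.Algebra.Star.Module
import Mathlib.NumberTheory.SumFourSquares
import Mathlib.Analysis.Complex.Polynomial.Basic
import Mathlib.Topology.Instances.Matrix
import Mathlib.Topology.Algebra.Order.Archimedean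
import Mathlib.Topology.Algebra.Polynomial
import Mathlib.Tactic.NoncommRing

/-!
# Positive involutions on finite-dimensional algebras over the rationals
-/

namespace Groth.Agent.PosInvolution

open Polynomial

/-- A root of the minimal polynomial of an operator which is symmetric for a positive definite
rational form is real, and non-negative if the operator is positive semidefinite. -/
theorem root_real_of_selfAdjoint {V : Type*} [AddCommGroup V] [Module ℚ V] [Module.Finite ℚ V]
    (B : LinearMap.BilinForm ℚ V) (hsymm : ∀ a b, B a b = B b a) (hpos : ∀ a, a ≠ 0 → 0 < B a a)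
    (f : Module.End ℚ V) (hf : ∀ a b, B (f a) b = B a (f b)) {z : ℂ}
    (hz : aeval z (minpoly ℚ f) = 0) :
    z.im = 0 ∧ ((∀ a, 0 ≤ B a (f a)) → 0 ≤ z.re) := by
  classical
  haveI : Invertible (2 : ℚ) := invertibleOfNonzero (by norm_num)
  obtain ⟨n, v, hv⟩ : ∃ (n : ℕ) (v : Module.Basis (Fin n) ℚ V), B.IsOrthoᵢ v :=
    ⟨_, LinearMap.BilinForm.exists_orthogonal_basis (B := B) ⟨hsymm⟩⟩
  set A : Matrix (Fin n) (Fin n) ℚ := LinearMap.toMatrix v v f with hA
  set d : Fin n → ℚ := fun i => B (v i) (v i) with hd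
  have hd0 : ∀ i, 0 < d i := fun i => hpos _ (v.ne_zero i)
  have hBA : ∀ i j, B (v i) (f (v j)) = d i * A i j := by
    intro i j
    conv_lhs => rw [← v.sum_repr (f (v j))]
    rw [map_sum, Finset.sum_eq_single i]
    · simp [hA, hd, LinearMap.toMatrix_apply, mul_comm]
    · intro k _ hk
      have : B (v i) (v k) = 0 := LinearMap.isOrthoᵢ_def.1 hv i k hk.symm
      simp [this]
    · simp
  have hsA : ∀ i j, d i * A i j = d j * A j i := fun i j => by
    rw [← hBA, ← hBA, ← hf, hsymm]
  have hmin : minpoly ℚ A = minpoly ℚ f := by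
    rw [← Matrix.minpoly_toLin v, hA, Matrix.toLin_toMatrix]
  rw [← hmin] at hz
  set Ac : Matrix (Fin n) (Fin n) ℂ := A.map (algebraMap ℚ ℂ) with hAc
  have hchar : aeval z A.charpoly = 0 := by
    obtain ⟨q, hq⟩ := Matrix.minpoly_dvd_charpoly A
    rw [hq, map_mul, hz, zero_mul]
  have hdet : (Matrix.scalar (Fin n) z - Ac).det = 0 := by
    rw [← Matrix.eval_charpoly, hAc, Matrix.charpoly_map, eval_map, ← aeval_def, hchar]
  obtain ⟨w, hw0, hw⟩ := Matrix.exists_mulVec_eq_zero_iff.2 hdet
  have hw' : ∀ i, ∑ j, (A i j : ℂ) * w j = z * w i := by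
    intro i
    have := congrFun hw i
    rw [Matrix.sub_mulVec, Pi.sub_apply, Pi.zero_apply, sub_eq_zero, Matrix.scalar_apply,
      Matrix.mulVec_diagonal] at this
    rw [this]
    simp [hAc, Matrix.mulVec, dotProduct]
  -- the hermitian forms
  set Q : ℂ := ∑ i, ∑ j, (starRingEnd ℂ) (w i) * ((d i * A i j : ℚ) : ℂ) * w j with hQ
  set N : ℝ := ∑ i, (d i : ℝ) * Complex.normSq (w i) with hN
  have hNpos : 0 < N := by
    obtain ⟨i, hi⟩ := Function.ne_iff.1 hw0
    exact Finset.sum_pos' (fun j _ => mul_nonneg (by exact_mod_cast (hd0 j).le) (Complex.normSq_nonneg _))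
      ⟨i, Finset.mem_univ _, mul_pos (by exact_mod_cast hd0 i) (Complex.normSq_pos.2 hi)⟩
  have hQz : Q = z * (N : ℂ) := by
    rw [hQ, hN, Complex.ofReal_sum, Finset.mul_sum]
    refine Finset.sum_congr rfl fun i _ => ?_
    rw [Complex.ofReal_mul, Complex.normSq_eq_conj_mul_self, Complex.ofReal_ratCast]
    calc ∑ j, (starRingEnd ℂ) (w i) * ((d i * A i j : ℚ) : ℂ) * w j
        = (starRingEnd ℂ) (w i) * (d i : ℂ) * ∑ j, (A i j : ℂ) * w j := by
          rw [Finset.mul_sum]; refine Finset.sum_congr rfl fun j _ => ?_; push_cast; ring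
      _ = _ := by rw [hw' i]; ring
  have hQreal : (starRingEnd ℂ) Q = Q := by
    rw [hQ, map_sum]
    simp_rw [map_sum, map_mul, Complex.conj_conj, map_ratCast]
    rw [Finset.sum_comm]
    refine Finset.sum_congr rfl fun i _ => Finset.sum_congr rfl fun j _ => ?_
    rw [hsA j i]; ring
  have him : z.im = 0 := by
    rw [hQz, map_mul, Complex.conj_ofReal] at hQreal
    have h := mul_right_cancel₀ (by exact_mod_cast hNpos.ne') hQreal
    exact Complex.conj_eq_iff_im.1 h
  refine ⟨him, fun hpsd => ?_⟩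
  -- the quadratic form extends to a non-negative real form
  have hreal : ∀ x : Fin n → ℝ, 0 ≤ ∑ i, ∑ j, x i * ((d i * A i j : ℚ) : ℝ) * x j := by
    have hdense : DenseRange (Pi.map fun (_ : Fin n) (q : ℚ) => (q : ℝ)) :=
      DenseRange.piMap fun _ => Rat.denseRange_cast
    intro x
    refine hdense.induction_on x
      (isClosed_le continuous_const (by fun_prop)) fun q => ?_
    have h := hpsd (∑ i, q i • v i)
    have e : B (∑ i, q i • v i) (f (∑ i, q i • v i)) = ∑ i, ∑ j, q i * (d i * A i j) * q j := by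
      simp only [map_sum, map_smul, LinearMap.sum_apply, LinearMap.smul_apply, smul_eq_mul, hBA,
        Finset.mul_sum]
      rw [Finset.sum_comm]
      exact Finset.sum_congr rfl fun i _ => Finset.sum_congr rfl fun j _ => by ring
    rw [e] at h
    have h' : (0 : ℝ) ≤ ((∑ i, ∑ j, q i * (d i * A i j) * q j : ℚ) : ℝ) := by exact_mod_cast h
    push_cast at h'
    simpa using h'
  have hre : Q.re = ∑ i, ∑ j, (w i).re * ((d i * A i j : ℚ) : ℝ) * (w j).re
      + ∑ i, ∑ j, (w i).im * ((d i * A i j : ℚ) : ℝ) * (w j).im := by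
    rw [hQ, Complex.re_sum, ← Finset.sum_add_distrib]
    refine Finset.sum_congr rfl fun i _ => ?_
    rw [Complex.re_sum, ← Finset.sum_add_distrib]
    refine Finset.sum_congr rfl fun j _ => ?_
    simp [Complex.mul_re]
  have h2 : 0 ≤ Q.re := by
    rw [hre]; exact add_nonneg (hreal _) (hreal _)
  rw [hQz] at h2
  simp [Complex.mul_re] at h2
  exact nonneg_of_mul_nonneg_left h2 hNpos

section Star

variable {R : Type*} [Ring R] [Algebra ℚ R] [StarRing R] [StarModule ℚ R]

/-- Elements of the subalgebra generated by a symmetric element are symmetric. -/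
theorem star_eq_of_mem_adjoin {x : R} (hx : star x = x) {y : R}
    (hy : y ∈ Algebra.adjoin ℚ ({x} : Set R)) : star y = y := by
  rw [Algebra.adjoin_singleton_eq_range_aeval] at hy
  obtain ⟨p, rfl⟩ := hy
  show star (aeval x p) = aeval x p
  induction p using Polynomial.induction_on' with
  | add p q hp hq => rw [map_add, star_add, hp, hq]
  | monomial n a =>
    rw [aeval_monomial, star_mul, star_pow, hx, ← algebraMap_star_comm]
    simp only [star_trivial]
    exact (Algebra.commutes a (x ^ n)).symm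

theorem mul_comm_of_mem_adjoin {x : R} {y z : R} (hy : y ∈ Algebra.adjoin ℚ ({x} : Set R))
    (hz : z ∈ Algebra.adjoin ℚ ({x} : Set R)) : y * z = z * y := by
  rw [Algebra.adjoin_singleton_eq_range_aeval] at hy hz
  obtain ⟨p, rfl⟩ := hy
  obtain ⟨q, rfl⟩ := hz
  show aeval x p * aeval x q = aeval x q * aeval x p
  rw [← map_mul, ← map_mul, mul_comm]

variable (σ : R →ₗ[ℚ] ℚ) (hpos : ∀ x : R, x ≠ 0 → 0 < σ (x * star x))
include hpos

theorem nonneg_mul_star (x : R) : 0 ≤ σ (x * star x) := by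
  by_cases h : x = 0
  · simp [h]
  · exact (hpos x h).le

theorem eq_zero_of_isNilpotent {y : R} (hy : star y = y) (h : IsNilpotent y) : y = 0 := by
  obtain ⟨n, hn⟩ := h
  have key : ∀ k : ℕ, ∀ z : R, star z = z → z ^ 2 ^ k = 0 → z = 0 := by
    intro k
    induction k with
    | zero => intro z _ h; simpa using h
    | succ k ih =>
      intro z hz h
      have h2 : z ^ 2 = 0 := ih (z ^ 2) (by rw [star_pow, hz]) (by rwa [← pow_mul, ← pow_succ'])
      by_contra h0
      have := hpos z h0
      rw [hz, ← pow_two, h2, map_zero] at this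
      exact lt_irrefl _ this
  refine key n y hy ?_
  exact pow_eq_zero_of_le (Nat.lt_two_pow_self).le hn

variable [Module.Finite ℚ R]

theorem isSemisimpleRing : IsSemisimpleRing R := by
  haveI : IsArtinianRing R := IsArtinianRing.of_finite ℚ R
  rw [IsArtinianRing.isSemisimpleRing_iff_jacobson, eq_bot_iff]
  intro x hx
  rw [Submodule.mem_bot]
  by_contra h0
  have hy : x * star x ∈ Ring.jacobson R := Ideal.mul_mem_right _ _ hx
  obtain ⟨n, hn⟩ := IsSemiprimaryRing.isNilpotent (R := R)
  have hnil : IsNilpotent (x * star x) := ⟨n, by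
    have := Ideal.pow_mem_pow hy n
    rw [hn] at this
    simpa using this⟩
  have := hpos x h0
  rw [eq_zero_of_isNilpotent σ hpos (by simp) hnil, map_zero] at this
  exact lt_irrefl _ this

theorem minpoly_squarefree {x : R} (hx : star x = x) : Squarefree (minpoly ℚ x) := by
  have hi : IsIntegral ℚ x := Algebra.IsIntegral.isIntegral x
  intro q hq
  obtain ⟨r, hr⟩ := hq
  have hm0 : minpoly ℚ x ≠ 0 := minpoly.ne_zero hi
  have h0 : aeval x (q * r) = 0 := by
    refine eq_zero_of_isNilpotent σ hpos (star_eq_of_mem_adjoin hx ?_) ⟨2, ?_⟩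
    · rw [Algebra.adjoin_singleton_eq_range_aeval]; exact ⟨_, rfl⟩
    · rw [← map_pow, show (q * r) ^ 2 = (q * q * r) * r by ring, ← hr, map_mul, minpoly.aeval, zero_mul]
  have hd := minpoly.dvd ℚ x h0
  rw [hr, mul_assoc q q r] at hd
  rw [hr, mul_assoc q q r] at hm0
  have hqr : q * r ≠ 0 := right_ne_zero_of_mul hm0
  obtain ⟨s, hs⟩ := hd
  have : q * s = 1 := by
    refine mul_left_cancel₀ hqr ?_
    rw [mul_one]
    conv_rhs => rw [hs]
    ring
  exact IsUnit.of_mul_eq_one s this

/-- The roots of the minimal polynomial of a symmetric element are real; they are non-negative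
if the element acts as a positive semidefinite operator on the algebra it generates. -/
theorem root_real {x : R} (hx : star x = x) {z : ℂ} (hz : aeval z (minpoly ℚ x) = 0) :
    z.im = 0 ∧ ((∀ y ∈ Algebra.adjoin ℚ ({x} : Set R), 0 ≤ σ (y * x * y)) → 0 ≤ z.re) := by
  set E := Algebra.adjoin ℚ ({x} : Set R)
  set xE : E := ⟨x, Algebra.self_mem_adjoin_singleton ℚ x⟩
  set B : LinearMap.BilinForm ℚ E :=
    ((LinearMap.mul ℚ R).compl₁₂ E.val.toLinearMap E.val.toLinearMap).compr₂ σ with hB
  have hB' : ∀ a b : E, B a b = σ ((a : R) * (b : R)) := fun a b => rfl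
  have hinj : Function.Injective (Algebra.lmul ℚ E) := Algebra.lmul_injective
  have hm : minpoly ℚ (Algebra.lmul ℚ E xE) = minpoly ℚ x := by
    rw [minpoly.algHom_eq _ hinj]
    exact (minpoly.algHom_eq E.val Subtype.val_injective xE).symm
  obtain ⟨h1, h2⟩ := root_real_of_selfAdjoint B
    (fun a b => by rw [hB', hB', mul_comm_of_mem_adjoin a.2 b.2])
    (fun a ha => by
      have ha' : (a : R) ≠ 0 := fun h => ha (Subtype.ext h)
      have := hpos (a : R) ha'
      rwa [star_eq_of_mem_adjoin hx a.2] at this)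
    (Algebra.lmul ℚ E xE) (fun a b => by
      show σ ((x * (a : R)) * (b : R)) = σ ((a : R) * (x * (b : R)))
      rw [← mul_assoc (a : R), mul_comm_of_mem_adjoin (Algebra.self_mem_adjoin_singleton ℚ x) a.2])
    (z := z) (by rw [hm]; exact hz)
  refine ⟨h1, fun h => h2 fun a => ?_⟩
  show 0 ≤ σ ((a : R) * (x * (a : R)))
  rw [← mul_assoc]
  exact h _ a.2

end Star

theorem exists_rat_eq_sum_sq {c : ℚ} (hc : 0 ≤ c) : ∃ a : Fin 4 → ℚ, c = ∑ i, a i ^ 2 := by
  obtain ⟨a, b, e, f, h⟩ := Nat.sum_four_squares (c.num.toNat * c.den)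
  refine ⟨fun i => (![a, b, e, f] i : ℕ) / (c.den : ℚ), ?_⟩
  have h' : (a : ℚ) ^ 2 + b ^ 2 + e ^ 2 + f ^ 2 = (c.num.toNat : ℚ) * c.den := by exact_mod_cast h
  have hnum : (c.num.toNat : ℚ) = (c.num : ℚ) := by
    have := Int.toNat_of_nonneg (Rat.num_nonneg.2 hc)
    exact_mod_cast this
  have hden : (c.den : ℚ) ≠ 0 := by exact_mod_cast c.den_nz
  simp only [Fin.sum_univ_four, Matrix.cons_val]
  field_simp
  rw [h', hnum, ← Rat.mul_den_eq_num]
  ring

/-- A squarefree rational polynomial all of whose roots are real and non-negative: modulo it, the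
variable is a sum of squares. -/
theorem exists_sum_sq {m : ℚ[X]} (hm : m.Monic) (hsep : m.Separable)
    (hroots : ∀ z : ℂ, aeval z m = 0 → z.im = 0 ∧ 0 ≤ z.re) :
    ∃ (k : ℕ) (g : Fin k → ℚ[X]), m ∣ X - ∑ i, g i ^ 2 := by
  classical
  set T : Finset ℝ := (m.aroots ℝ).toFinset
  have hcomplex : ∀ z ∈ m.aroots ℂ, ∃ r ∈ T, (r : ℂ) = z := by
    intro z hz
    obtain ⟨h1, -⟩ := hroots z (mem_aroots.1 hz).2
    have e : ((z.re : ℝ) : ℂ) = z := Complex.ext (by simp) (by simp [h1])
    refine ⟨z.re, Multiset.mem_toFinset.2 (mem_aroots.2 ⟨hm.ne_zero, ?_⟩), e⟩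
    have h := (mem_aroots.1 hz).2
    rw [← e] at h
    have : ((aeval z.re m : ℝ) : ℂ) = 0 := by
      rw [← h]
      exact (aeval_algHom_apply (Complex.ofRealAm.restrictScalars ℚ) z.re m).symm
    exact_mod_cast this
  have hcard : T.card = m.natDegree := by
    refine le_antisymm ((Multiset.toFinset_card_le _).trans ((card_roots' _).trans (natDegree_map_le))) ?_
    have hnd : (m.aroots ℂ).Nodup := nodup_roots hsep.map
    have hc : (m.aroots ℂ).card = m.natDegree := by
      exact IsAlgClosed.card_aroots_eq_natDegree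
    calc m.natDegree = (m.aroots ℂ).toFinset.card := by rw [Multiset.toFinset_card_of_nodup hnd, hc]
      _ ≤ (T.image (fun r : ℝ => (r : ℂ))).card := Finset.card_le_card fun z hz => by
          obtain ⟨r, hr, e⟩ := hcomplex z (Multiset.mem_toFinset.1 hz)
          exact Finset.mem_image.2 ⟨r, hr, e⟩
      _ ≤ T.card := Finset.card_image_le
  have hnn : ∀ r ∈ T, (0 : ℝ) ≤ r := by
    intro r hr
    have h := (mem_aroots.1 (Multiset.mem_toFinset.1 hr)).2
    have h' : aeval (r : ℂ) m = 0 := by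
      have := aeval_algHom_apply (Complex.ofRealAm.restrictScalars ℚ) r m
      rw [h, map_zero] at this
      exact this
    simpa using (hroots _ h').2
  have hroot : ∀ r ∈ T, aeval r m = 0 := fun r hr => (mem_aroots.1 (Multiset.mem_toFinset.1 hr)).2
  set n := m.natDegree
  -- candidates, with real parameters
  let wPol : (T → Fin n → ℝ) → T → ℝ → ℝ := fun w b a => ∑ l : Fin n, w b l * a ^ (l : ℕ)
  set mX : ℚ[X] := m /ₘ X
  let uval : (T → Fin n → ℝ) → T → T → ℝ := fun w a b =>
    if (b : ℝ) = 0 then aeval (a : ℝ) mX else (a : ℝ) * wPol w b a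
  let M : (T → Fin n → ℝ) → Matrix T T ℝ := fun w => Matrix.of fun a b => uval w a b ^ 2
  let tgt : T → ℝ := fun a => (a : ℝ)
  -- the value of m / X
  have hmX : ∀ a b : T, (b : ℝ) = 0 →
      ((a : ℝ) = 0 → aeval (a : ℝ) mX ≠ 0) ∧ ((a : ℝ) ≠ 0 → aeval (a : ℝ) mX = 0) := by
    intro a b hb
    have hX : X ∣ m := by
      have h0 := hroot _ b.2
      rw [hb, ← coeff_zero_eq_aeval_zero'] at h0
      exact X_dvd_iff.2 (by simpa using h0)
    have e : X * mX = m := by
      have h := modByMonic_add_div (p := m) (q := X)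
      rwa [(modByMonic_eq_zero_iff_dvd monic_X).2 hX, zero_add] at h
    refine ⟨fun ha h => ?_, fun ha => ?_⟩
    · have hdvd : X ∣ mX := by
        rw [ha, ← coeff_zero_eq_aeval_zero'] at h
        exact X_dvd_iff.2 (by simpa using h)
      exact not_isUnit_X (hsep.squarefree X (e ▸ mul_dvd_mul_left X hdvd))
    · have h0 := hroot _ a.2
      rw [← e, map_mul, aeval_X] at h0
      exact (mul_eq_zero.1 h0).resolve_left ha
  -- the exact solution
  have hw₀ : ∃ w : T → Fin n → ℝ, ∀ a b : T, (b : ℝ) ≠ 0 →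
      wPol w b a = if a = b then (b : ℝ)⁻¹ else 0 := by
    refine ⟨fun b l => (b : ℝ)⁻¹ * (Lagrange.basis T id (b : ℝ)).coeff l, fun a b hb => ?_⟩
    have hdeg : (Lagrange.basis T id (b : ℝ)).natDegree < n := by
      have hT : (b : ℝ) ∈ T := b.2
      rw [Lagrange.natDegree_basis (Function.injective_id.injOn) hT, hcard]
      have : 0 < T.card := Finset.card_pos.2 ⟨_, hT⟩
      omega
    simp only [wPol, mul_assoc, ← Finset.mul_sum]
    rw [Fin.sum_univ_eq_sum_range (fun l => (Lagrange.basis T id (b : ℝ)).coeff l * (a : ℝ) ^ l),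
      ← eval_eq_sum_range' hdeg]
    split_ifs with hab
    · subst hab
      rw [show eval (a : ℝ) (Lagrange.basis T id (a : ℝ)) = 1 from
        Lagrange.eval_basis_self (Function.injective_id.injOn) a.2, mul_one]
    · rw [show eval (a : ℝ) (Lagrange.basis T id (b : ℝ)) = 0 from
        Lagrange.eval_basis_of_ne (v := id) (fun h => hab (Subtype.ext h.symm)) a.2, mul_zero]
  obtain ⟨w₀, hw₀⟩ := hw₀
  have hM₀ : ∀ a b : T, a ≠ b → M w₀ a b = 0 := by
    intro a b hab
    simp only [M, uval, Matrix.of_apply]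
    split_ifs with hb
    · rw [(hmX a b hb).2 (fun ha => hab (Subtype.ext (ha.trans hb.symm))), zero_pow two_ne_zero]
    · rw [hw₀ a b hb, if_neg hab]; ring
  have hM₁ : ∀ a : T, 0 < M w₀ a a := by
    intro a
    simp only [M, uval, Matrix.of_apply]
    split_ifs with ha
    · exact pow_two_pos_of_ne_zero ((hmX a a ha).1 ha)
    · rw [hw₀ a a ha, if_pos rfl, mul_inv_cancel₀ ha]; norm_num
  have hdiag : M w₀ = Matrix.diagonal (fun a => M w₀ a a) := by
    ext a b
    by_cases h : a = b
    · subst h; simp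
    · rw [Matrix.diagonal_apply_ne _ h, hM₀ a b h]
  set U : Set (T → Fin n → ℝ) := {w | (M w).det ≠ 0 ∧ ∀ b : T, (b : ℝ) ≠ 0 →
    0 < (M w).det * ((M w).adjugate.mulVec tgt) b}
  have hMcont : Continuous M := by
    refine continuous_pi fun a => continuous_pi fun b => ?_
    simp only [M, uval, wPol, Matrix.of_apply]
    split_ifs <;> fun_prop
  have hU : IsOpen U := by
    simp only [U, Set.ofPred_and, Set.ofPred_forall]
    refine (isOpen_ne.preimage hMcont.matrix_det).inter (isOpen_iInter_of_finite fun b => ?_)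
    refine isOpen_iInter_of_finite fun _ => isOpen_lt continuous_const ?_
    exact hMcont.matrix_det.mul ((continuous_apply b).comp (hMcont.matrix_adjugate.matrix_mulVec continuous_const))
  have hdet₀ : 0 < (M w₀).det := by
    rw [hdiag, Matrix.det_diagonal]; exact Finset.prod_pos fun a _ => hM₁ a
  have hU₀ : w₀ ∈ U := by
    refine ⟨hdet₀.ne', fun b hb => ?_⟩
    have h := congrFun (show (M w₀).mulVec ((M w₀).adjugate.mulVec tgt) = (M w₀).det • tgt by
      rw [Matrix.mulVec_mulVec, Matrix.mul_adjugate, Matrix.smul_mulVec, Matrix.one_mulVec]) b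
    rw [Matrix.mulVec, dotProduct, Finset.sum_eq_single b (fun c _ hc => by rw [hM₀ b c hc.symm, zero_mul]) (by simp)] at h
    have hbpos : 0 < tgt b := lt_of_le_of_ne (hnn _ b.2) (Ne.symm hb)
    have : 0 < ((M w₀).adjugate.mulVec tgt) b := by
      refine pos_of_mul_pos_right (a := M w₀ b b) ?_ (hM₁ b).le
      rw [h]; exact mul_pos hdet₀ hbpos
    exact mul_pos hdet₀ this
  have hdense : DenseRange (Pi.map fun (_ : T) (q : Fin n → ℚ) => Pi.map (fun (_ : Fin n) (x : ℚ) => (x : ℝ)) q) :=
    DenseRange.piMap fun _ => DenseRange.piMap fun _ => Rat.denseRange_cast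
  obtain ⟨q, hq⟩ := hdense.exists_mem_open hU ⟨w₀, hU₀⟩
  set w : T → Fin n → ℝ := Pi.map (fun (_ : T) (q : Fin n → ℚ) => Pi.map (fun (_ : Fin n) (x : ℚ) => (x : ℝ)) q) q with hw
  obtain ⟨hdet, hcpos⟩ := hq
  set u : T → ℚ[X] := fun b => if (b : ℝ) = 0 then mX else X * ∑ l : Fin n, C (q b l) * X ^ (l : ℕ)
  have hu : ∀ a b : T, aeval (a : ℝ) (u b) = uval w a b := by
    intro a b
    simp only [u, uval]
    split_ifs
    · rfl
    · simp [wPol, hw]
  have hev : ∀ (c : T → ℚ) (a : T), aeval (a : ℝ) (∑ b, C (c b) * u b ^ 2) = (M w).mulVec (fun b => (c b : ℝ)) a := by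
    intro c a
    simp [Matrix.mulVec, dotProduct, M, hu, mul_comm]
  set Φ : (T → ℚ) →ₗ[ℚ] AdjoinRoot m :=
    ∑ b : T, (LinearMap.proj b : (T → ℚ) →ₗ[ℚ] ℚ).smulRight (AdjoinRoot.mk m (u b ^ 2))
  have hΦ : ∀ c, Φ c = AdjoinRoot.mk m (∑ b, C (c b) * u b ^ 2) := by
    intro c
    simp [Φ, Algebra.smul_def, AdjoinRoot.algebraMap_eq]
  have hvanish : ∀ p : ℚ[X], m ∣ p → ∀ a : T, aeval (a : ℝ) p = 0 := by
    rintro p ⟨s, rfl⟩ a
    rw [map_mul, hroot _ a.2, zero_mul]
  have hinj : Function.Injective Φ := by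
    rw [← LinearMap.ker_eq_bot, eq_bot_iff]
    intro c hc
    rw [LinearMap.mem_ker, hΦ, AdjoinRoot.mk_eq_zero] at hc
    have h0 : (M w).mulVec (fun b => (c b : ℝ)) = 0 := by
      funext a; rw [← hev]; exact hvanish _ hc a
    have := Matrix.eq_zero_of_mulVec_eq_zero hdet h0
    rw [Submodule.mem_bot]
    funext b
    have := congrFun this b
    simp only [Pi.zero_apply, Rat.cast_eq_zero] at this
    exact this
  haveI : Module.Finite ℚ (AdjoinRoot m) := (AdjoinRoot.powerBasis' hm).finite
  have hrank : Module.finrank ℚ (T → ℚ) = Module.finrank ℚ (AdjoinRoot m) := by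
    rw [(AdjoinRoot.powerBasis' hm).finrank, AdjoinRoot.powerBasis'_dim, Module.finrank_pi,
      Fintype.card_coe, hcard]
  obtain ⟨c, hc⟩ := (LinearMap.injective_iff_surjective_of_finrank_eq_finrank hrank).1 hinj (AdjoinRoot.mk m X)
  rw [hΦ, AdjoinRoot.mk_eq_mk] at hc
  have hMc : (M w).mulVec (fun b => (c b : ℝ)) = tgt := by
    funext a
    have := hvanish _ hc a
    rw [map_sub, aeval_X, hev, sub_eq_zero] at this
    exact this
  have hcb : ∀ b, 0 ≤ c b := by
    intro b
    have h := congrArg ((M w).adjugate.mulVec) hMc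
    rw [Matrix.mulVec_mulVec, Matrix.adjugate_mul, Matrix.smul_mulVec, Matrix.one_mulVec] at h
    by_cases hb : (b : ℝ) = 0
    · -- the row of zero has a single entry
      have hrow : ∀ c' : T, c' ≠ b → M w b c' = 0 := by
        intro c' hc'
        simp only [M, uval, Matrix.of_apply]
        rw [if_neg (fun h' => hc' (Subtype.ext (h'.trans hb.symm))), hb, zero_mul, zero_pow two_ne_zero]
      have h' := congrFun hMc b
      rw [Matrix.mulVec, dotProduct, Finset.sum_eq_single b (fun c' _ hc' => by rw [hrow c' hc', zero_mul]) (by simp)] at h'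
      have hne : M w b b ≠ 0 := by
        simp only [M, uval, Matrix.of_apply, if_pos hb]
        exact pow_ne_zero 2 ((hmX b b hb).1 hb)
      have : (c b : ℝ) = 0 := (mul_eq_zero.1 (h'.trans hb)).resolve_left hne
      exact le_of_eq (by exact_mod_cast this.symm)
    · have h' := congrFun h b
      have hp := hcpos b hb
      rw [← h', Pi.smul_apply, smul_eq_mul, ← mul_assoc] at hp
      have : (0 : ℝ) < (c b : ℝ) := pos_of_mul_pos_right hp (mul_self_nonneg _)
      exact le_of_lt (by exact_mod_cast this)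
  choose a ha using fun b => exists_rat_eq_sum_sq (hcb b)
  set e := Fintype.equivFin (T × Fin 4)
  refine ⟨_, fun i => C (a (e.symm i).1 (e.symm i).2) * u (e.symm i).1, ?_⟩
  rw [Equiv.sum_comp e.symm (fun p : T × Fin 4 => (C (a p.1 p.2) * u p.1) ^ 2), Fintype.sum_prod_type]
  have : ∑ b : T, ∑ i : Fin 4, (C (a b i) * u b) ^ 2 = ∑ b, C (c b) * u b ^ 2 := by
    refine Finset.sum_congr rfl fun b _ => ?_
    simp_rw [mul_pow, ← map_pow, ← Finset.sum_mul, ← map_sum, ← ha b]
  rw [this]
  exact (dvd_neg.2 hc).trans (by rw [neg_sub])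

section Applications

variable {R : Type*} [Ring R] [Algebra ℚ R] [StarRing R] [StarModule ℚ R] [Module.Finite ℚ R]
  (σ : R →ₗ[ℚ] ℚ)

/-- A symmetric element which is non-negative on its own subalgebra is a sum of squares there. -/
theorem exists_sumSq_of_nonneg (hpos : ∀ x : R, x ≠ 0 → 0 < σ (x * star x)) {x : R} (hx : star x = x)
    (h : ∀ y ∈ Algebra.adjoin ℚ ({x} : Set R), 0 ≤ σ (y * x * y)) :
    ∃ (n : ℕ) (y : Fin n → R), (∀ i, y i ∈ Algebra.adjoin ℚ ({x} : Set R)) ∧ x = ∑ i, y i ^ 2 := by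
  obtain ⟨k, g, hg⟩ := exists_sum_sq (minpoly.monic (Algebra.IsIntegral.isIntegral x))
    (PerfectField.separable_iff_squarefree.2 (minpoly_squarefree σ hpos hx))
    (fun z hz => ⟨(root_real σ hpos hx hz).1, (root_real σ hpos hx hz).2 h⟩)
  refine ⟨k, fun i => aeval x (g i), fun i => ?_, ?_⟩
  · rw [Algebra.adjoin_singleton_eq_range_aeval]; exact ⟨_, rfl⟩
  · obtain ⟨s, hs⟩ := hg
    have e := congrArg (aeval x) hs
    rw [map_sub, aeval_X, map_mul, minpoly.aeval, zero_mul, map_sum, sub_eq_zero] at e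
    simp only [map_pow] at e
    exact e

theorem conj_ne_zero (hσ : ∀ x y : R, σ (x * y) = σ (y * x))
    (hpos : ∀ x : R, x ≠ 0 → 0 < σ (x * star x)) {α : R} (hα : star α = α) {n : ℕ} (β : Fin n → R)
    (hβ : ∀ i, β i ∈ Algebra.adjoin ℚ ({α} : Set R)) (hsum : α = ∑ i, β i ^ 2) (γ : R)
    (hγ : star γ * α ≠ 0) : star γ * α * γ ≠ 0 := by
  intro h
  have hnn : ∀ i, 0 ≤ σ ((β i * γ) * star (β i * γ)) := fun i => nonneg_mul_star σ hpos _
  have e : σ (star γ * α * γ) = ∑ i, σ ((β i * γ) * star (β i * γ)) := by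
    rw [hsum, Finset.mul_sum, Finset.sum_mul, map_sum]
    refine Finset.sum_congr rfl fun i _ => ?_
    rw [hσ (β i * γ), star_mul, star_eq_of_mem_adjoin hα (hβ i), pow_two]
    simp only [mul_assoc]
  rw [h, map_zero, eq_comm, Finset.sum_eq_zero_iff_of_nonneg (fun i _ => hnn i)] at e
  have hz : ∀ i, β i * γ = 0 := fun i => by
    by_contra h0
    exact (hpos _ h0).ne' (e i (Finset.mem_univ _))
  refine hγ ?_
  have hag : α * γ = 0 := by
    rw [hsum, Finset.sum_mul]
    exact Finset.sum_eq_zero fun i _ => by rw [pow_two, mul_assoc, hz, mul_zero]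
  have := congrArg star hag
  rwa [star_mul, hα, star_zero] at this

theorem trace_conj_pos (hσ : ∀ x y : R, σ (x * y) = σ (y * x))
    (hpos : ∀ x : R, x ≠ 0 → 0 < σ (x * star x)) {α : R} (hα : star α = α) {n : ℕ} (β : Fin n → R)
    (hβ : ∀ i, β i ∈ Algebra.adjoin ℚ ({α} : Set R)) (hsum : α = ∑ i, β i ^ 2) (γ : R)
    (hγ : star γ * α * γ ≠ 0) : 0 < σ (star γ * α * γ) := by
  have e : σ (star γ * α * γ) = ∑ i, σ ((β i * γ) * star (β i * γ)) := by
    rw [hsum, Finset.mul_sum, Finset.sum_mul, map_sum]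
    refine Finset.sum_congr rfl fun i _ => ?_
    rw [hσ (β i * γ), star_mul, star_eq_of_mem_adjoin hα (hβ i), pow_two]
    simp only [mul_assoc]
  rw [e]
  refine lt_of_le_of_ne (Finset.sum_nonneg fun i _ => nonneg_mul_star σ hpos _) fun h0 => hγ ?_
  rw [eq_comm, Finset.sum_eq_zero_iff_of_nonneg (fun i _ => nonneg_mul_star σ hpos _)] at h0
  have hz : ∀ i, β i * γ = 0 := fun i => by
    by_contra h1
    exact (hpos _ h1).ne' (h0 i (Finset.mem_univ _))
  rw [hsum, mul_assoc, Finset.sum_mul]
  simp [pow_two, mul_assoc, hz]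

/-- A normal element with rational norm: the involution is complex conjugation under every embedding. -/
theorem star_eq_conj (hpos : ∀ x : R, x ≠ 0 → 0 < σ (x * star x))
    (α : R) (q : ℚ) (hα : α * star α = algebraMap ℚ R q) :
    ∃ hmem : star α ∈ Algebra.adjoin ℚ ({α} : Set R),
      ∀ ρ : Algebra.adjoin ℚ ({α} : Set R) →ₐ[ℚ] ℂ,
        ρ ⟨star α, hmem⟩ = starRingEnd ℂ (ρ ⟨α, Algebra.self_mem_adjoin_singleton ℚ α⟩) ∧
          ‖ρ ⟨α, Algebra.self_mem_adjoin_singleton ℚ α⟩‖ ^ 2 = (q : ℝ) := by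
  set E := Algebra.adjoin ℚ ({α} : Set R) with hE
  have hαE : α ∈ E := Algebra.self_mem_adjoin_singleton ℚ α
  have hmem : star α ∈ E := by
    by_cases h0 : α = 0
    · simp [h0]
    · have hq : q ≠ 0 := fun hq => by
        have := hpos α h0
        rw [hα, hq, map_zero, map_zero] at this
        exact lt_irrefl _ this
      haveI : IsArtinianRing E := IsArtinianRing.of_finite ℚ E
      obtain ⟨b, hb⟩ := (IsArtinianRing.isUnit_iff_isRightRegular (R := E) (x := ⟨α, hαE⟩)).2
        (fun a b hab => by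
          apply Subtype.ext
          have h1 : (a : R) * α = (b : R) * α := congrArg Subtype.val hab
          have h4 : ((a : R) - b) * α * star α = 0 := by rw [sub_mul, h1, sub_self, zero_mul]
          rw [mul_assoc, hα, ← Algebra.commutes, ← Algebra.smul_def] at h4
          exact sub_eq_zero.1 ((smul_eq_zero.1 h4).resolve_left hq))
      have h5 : (↑(b⁻¹ : Eˣ) : E).1 * α = 1 := by
        have := congrArg Subtype.val b.inv_mul
        rw [hb] at this
        exact this
      have h6 : star α = (↑(b⁻¹ : Eˣ) : E).1 * algebraMap ℚ R q := by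
        rw [← hα, ← mul_assoc, h5, one_mul]
      rw [h6]
      exact mul_mem (↑(b⁻¹ : Eˣ) : E).2 (E.algebraMap_mem q)
  refine ⟨hmem, fun ρ => ?_⟩
  set a : E := ⟨α, hαE⟩
  set a' : E := ⟨star α, hmem⟩
  have hroot : ∀ c : E, aeval (ρ c) (minpoly ℚ (c : R)) = 0 := fun c => by
    rw [show minpoly ℚ (c : R) = minpoly ℚ c from minpoly.algHom_eq E.val Subtype.val_injective c,
      aeval_algHom_apply, minpoly.aeval, map_zero]
  -- the symmetric part is real, the skew part squares to a non-positive number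
  obtain ⟨h1, -⟩ := root_real σ hpos (x := ((a + a' : E) : R))
    (by simp [a, a', add_comm]) (hroot (a + a'))
  have hskew : ((-((a - a') ^ 2) : E) : R) = (α - star α) * star (α - star α) := by
    simp [a, a', pow_two]
    noncomm_ring
  obtain ⟨h2, h3⟩ := root_real σ hpos (x := ((-((a - a') ^ 2) : E) : R))
    (by rw [hskew]; simp) (hroot (-((a - a') ^ 2)))
  have h3' := h3 (fun y hy => by
    have hy' := star_eq_of_mem_adjoin (by rw [hskew]; simp) hy
    rw [hskew, show y * ((α - star α) * star (α - star α)) * y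
      = (y * (α - star α)) * star (y * (α - star α)) by rw [star_mul, hy']; simp only [mul_assoc]]
    exact nonneg_mul_star σ hpos _)
  rw [map_add] at h1
  rw [map_neg, map_pow, map_sub] at h2 h3'
  simp only [Complex.add_im, Complex.neg_im, Complex.neg_re, pow_two, Complex.mul_im, Complex.mul_re,
    Complex.sub_re, Complex.sub_im] at h1 h2 h3'
  have hconj : ρ a' = starRingEnd ℂ (ρ a) := by
    set p := (ρ a).re - (ρ a').re
    set r := (ρ a).im - (ρ a').im
    have hp : p = 0 := by
      rcases mul_eq_zero.1 (show p * r = 0 by linarith) with h | h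
      · exact h
      · rw [h] at h3'; nlinarith
    exact Complex.ext (by simp; linarith) (by simp; linarith)
  refine ⟨hconj, ?_⟩
  have h7 : ρ a * ρ a' = (q : ℂ) := by
    rw [← map_mul, show a * a' = algebraMap ℚ E q from Subtype.ext hα, AlgHom.commutes]
    simp
  rw [hconj, Complex.mul_conj, Complex.normSq_eq_norm_sq] at h7
  exact_mod_cast h7

end Applications

end Groth.Agent.PosInvolution
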